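import Mathlib

/-!
# S3421 (PSL(2,q) by order and spectrum): numerical setups and layered fact bundles

Odd characteristic: `q = p ^ f > 3`, `{a, b} = {(q-1)/2, (q+1)/2}` with `a` odd (so `b` is even),
`|G| = 2 q a b`, and the orders of the elements of `G` are exactly the divisors of `p`, `a`, `b`.
Characteristic two: `q = 2 ^ f ≥ 4`, `|G| = q (q-1) (q+1)`, orders = divisors of `2`, `q-1`, `q+1`.
-/

set_option autoImplicit false

namespace Cfsg.Agent.Helper54.PSO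

universe u

open Subgroup

/-- Numerical data of the odd-characteristic case. -/
structure Setup (G : Type u) [Group G] where
  p : ℕ
  f : ℕ
  a : ℕ
  b : ℕ
  hp : p.Prime
  hp2 : p ≠ 2
  hab : a + b = p ^ f
  hd : a = b + 1 ∨ b = a + 1
  ha : Odd a
  h3 : 3 < p ^ f
  hcard : Nat.card G = 2 * p ^ f * a * b
  hspec : ∀ m : ℕ, (∃ g : G, orderOf g = m) ↔ (m ∣ p ∨ m ∣ a ∨ m ∣ b)

variable {G : Type u} [Group G]

/-- `q = p ^ f`. -/
abbrev Setup.q (S : Setup G) : ℕ := S.p ^ S.f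

/-- The three counts obtained from Frobenius' theorem. -/
structure Counts (S : Setup G) : Prop where
  np : Nat.card {x : G // orderOf x = S.p} = 4 * S.a * S.b
  na : Nat.card {x : G // x ≠ 1 ∧ x ^ S.a = 1} = (S.a - 1) * S.q * S.b
  nb : Nat.card {x : G // x ≠ 1 ∧ x ^ S.b = 1} = (S.b - 1) * S.q * S.a

/-- Orders of centralizers. -/
structure Cent (S : Setup G) : Prop where
  cp : ∀ x : G, orderOf x = S.p → Nat.card (centralizer ({x} : Set G)) ∣ S.q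
  ca : ∀ x : G, x ≠ 1 → x ^ S.a = 1 → Nat.card (centralizer ({x} : Set G)) ∣ S.a
  cb : ∀ x : G, x ≠ 1 → x ^ S.b = 1 → Nat.card (centralizer ({x} : Set G)) ∣ 2 * S.b

/-- The cyclic Hall subgroup `C = ⟨c⟩` of odd order `a`. -/
structure CSide (S : Setup G) (c : G) : Prop where
  hc : orderOf c = S.a
  ti : ∀ g : G, ∀ x ∈ zpowers c, x ≠ 1 → g * x * g⁻¹ ∈ zpowers c →
    g ∈ normalizer (zpowers c : Set G)
  cov : ∀ x : G, x ≠ 1 → x ^ S.a = 1 → ∃ g : G, g * x * g⁻¹ ∈ zpowers c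
  idx : (normalizer (zpowers c : Set G)).index = S.q * S.b

/-- The cyclic subgroup `D = ⟨d⟩` of even order `b`, with involution `u = d ^ (b / 2)`. -/
structure DSide (S : Setup G) (d : G) : Prop where
  hd : orderOf d = S.b
  cu : Nat.card (centralizer ({d ^ (S.b / 2)} : Set G)) = 2 * S.b
  ti : ∀ g : G, ∀ y ∈ zpowers d, y ≠ 1 → g * y * g⁻¹ ∈ zpowers d →
    g ∈ centralizer ({d ^ (S.b / 2)} : Set G)
  cov : ∀ y : G, y ≠ 1 → y ^ S.b = 1 → ∃ g : G, g * y * g⁻¹ ∈ zpowers d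

/-- Numerical data of the characteristic-two case. -/
structure SetupE (G : Type u) [Group G] where
  f : ℕ
  hf : 2 ≤ f
  hcard : Nat.card G = 2 ^ f * (2 ^ f - 1) * (2 ^ f + 1)
  hspec : ∀ m : ℕ, (∃ g : G, orderOf g = m) ↔ (m ∣ 2 ∨ m ∣ 2 ^ f - 1 ∨ m ∣ 2 ^ f + 1)

theorem Setup.order_cases (S : Setup G) (x : G) :
    orderOf x ∣ S.p ∨ orderOf x ∣ S.a ∨ orderOf x ∣ S.b :=
  (S.hspec _).1 ⟨x, rfl⟩

theorem Setup.exists_order (S : Setup G) {m : ℕ} (h : m ∣ S.p ∨ m ∣ S.a ∨ m ∣ S.b) :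
    ∃ g : G, orderOf g = m :=
  (S.hspec _).2 h

theorem SetupE.order_cases (S : SetupE G) (x : G) :
    orderOf x ∣ 2 ∨ orderOf x ∣ 2 ^ S.f - 1 ∨ orderOf x ∣ 2 ^ S.f + 1 :=
  (S.hspec _).1 ⟨x, rfl⟩

end Cfsg.Agent.Helper54.PSO
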